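import Cfsg.Agent.Icosian.Data
set_option linter.all false

/-!
Kernel checks on the data: units, representatives, action of the four generating reflections.
-/

set_option autoImplicit false

open Quaternion
open Cfsg.Spor
open Cfsg.Agent.Icosian.Basic
open Cfsg.Agent.Icosian.Basic.QZ
open Cfsg.Agent.Icosian.Lattice
open Cfsg.Agent.Icosian.Model
open Cfsg.Agent.Icosian.Data

namespace Cfsg.Agent.Icosian.Tables

/-- every representative lies in the lattice and has norm 4 -/
theorem rep_chk : allBelow 315 (fun i => inL (rep i) && decide (V3.nA (rep i) = 16) &&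
    decide (V3.nB (rep i) = 0)) = true := by decide +kernel

theorem rep_inL {i : ℕ} (hi : i < 315) : inL (rep i) = true := by
  have := allBelow_spec rep_chk i hi
  simp only [Bool.and_eq_true, decide_eq_true_eq] at this
  exact this.1.1

theorem rep_nA {i : ℕ} (hi : i < 315) : V3.nA (rep i) = 16 := by
  have := allBelow_spec rep_chk i hi
  simp only [Bool.and_eq_true, decide_eq_true_eq] at this
  exact this.1.2

theorem rep_nB {i : ℕ} (hi : i < 315) : V3.nB (rep i) = 0 := by
  have := allBelow_spec rep_chk i hi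
  simp only [Bool.and_eq_true, decide_eq_true_eq] at this
  exact this.2

theorem rep_mem {i : ℕ} (hi : i < 315) : toV (rep i) ∈ icoLeech :=
  (toV_mem_iff _).mpr (rep_inL hi)

theorem rep_qip {i : ℕ} (hi : i < 315) : qip (toV (rep i)) (toV (rep i)) = 4 :=
  (qip_self_toV _).mpr ⟨rep_nA hi, rep_nB hi⟩

theorem unit_chk : allBelow 120 (fun i => par (unitQ i) && decide (QZ.nA (unitQ i) = 4) &&
    decide (QZ.nB (unitQ i) = 0)) = true := by decide +kernel

theorem unit_mem {i : ℕ} (hi : i < 120) : toH (unitQ i) ∈ icosians := by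
  have := allBelow_spec unit_chk i hi
  simp only [Bool.and_eq_true, decide_eq_true_eq] at this
  exact mem_of_par this.1.1

theorem unit_norm {i : ℕ} (hi : i < 120) : Quaternion.normSq (toH (unitQ i)) = 1 := by
  have := allBelow_spec unit_chk i hi
  simp only [Bool.and_eq_true, decide_eq_true_eq] at this
  rw [toH_norm, this.1.2, this.2]
  norm_num

/-! ### The generators -/

/-- exchange of the first two coordinates -/
def swap01 (v : V3) : V3 := ⟨v.y, v.x, v.z⟩
/-- exchange of the last two coordinates -/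
def swap12 (v : V3) : V3 := ⟨v.x, v.z, v.y⟩
/-- change of sign of the first coordinate -/
def neg0 (v : V3) : V3 := ⟨QZ.smul (-1) v.x, v.y, v.z⟩

theorem tab0_chk : allBelow 315 (fun i =>
    V3.beq (V3.mulV (unitQ (tabU0.getD i 0)) (rep (tabP0.getD i 0))) (V3.smul 2 (swap01 (rep i))) &&
      Nat.blt (tabP0.getD i 0) 315 && Nat.blt (tabU0.getD i 0) 120) = true := by
  decide +kernel

theorem tab1_chk : allBelow 315 (fun i =>
    V3.beq (V3.mulV (unitQ (tabU1.getD i 0)) (rep (tabP1.getD i 0))) (V3.smul 2 (swap12 (rep i))) &&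
      Nat.blt (tabP1.getD i 0) 315 && Nat.blt (tabU1.getD i 0) 120) = true := by
  decide +kernel

theorem tab2_chk : allBelow 315 (fun i =>
    V3.beq (V3.mulV (unitQ (tabU2.getD i 0)) (rep (tabP2.getD i 0))) (V3.smul 2 (neg0 (rep i))) &&
      Nat.blt (tabP2.getD i 0) 315 && Nat.blt (tabU2.getD i 0) 120) = true := by
  decide +kernel

theorem tab3_chk : allBelow 315 (fun i =>
    reflEq (rep 36) (rep i) (unitQ (tabU3.getD i 0)) (rep (tabP3.getD i 0)) &&
      Nat.blt (tabP3.getD i 0) 315 && Nat.blt (tabU3.getD i 0) 120) = true := by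
  decide +kernel

/-- indices (among the representatives) of the four generating reflections -/
def gidx : Fin 4 → ℕ
  | 0 => 19
  | 1 => 3
  | 2 => 0
  | 3 => 36

theorem gidx_lt (k : Fin 4) : gidx k < 315 := by revert k; decide

/-- the action tables of the four generating reflections on the 315 lines -/
def tabP : Fin 4 → ℕ → ℕ
  | 0, i => tabP0.getD i 0
  | 1, i => tabP1.getD i 0
  | 2, i => tabP2.getD i 0
  | 3, i => tabP3.getD i 0

/-- the unit tables of the four generating reflections -/
def tabU : Fin 4 → ℕ → ℕ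
  | 0, i => tabU0.getD i 0
  | 1, i => tabU1.getD i 0
  | 2, i => tabU2.getD i 0
  | 3, i => tabU3.getD i 0

theorem half_two_mul (a : ℍ[ℝ]) : ((1 / 2 : ℝ) • (a * star icoH)) * icoH = a := by
  rw [smul_mul_assoc, mul_assoc, star_mul_icoH, mul_two, smul_add, two_half]

theorem qrefl_swap01 (v : V3) : qrefl (toV (rep 19)) (toV v) = toV (swap01 v) := by
  have h19 : rep 19 = ⟨QH, QZ.smul (-1) QH, QZero⟩ := by decide +kernel
  have hip : qip (toV v) (toV (rep 19)) = (toH v.x - toH v.y) * star icoH := by
    rw [qip_def, h19, toV_zero, toV_one, toV_two, toV_zero, toV_one, toV_two]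
    simp only [toH_neg, toH_QZero, toH_QH, star_neg, star_zero, mul_zero, add_zero, mul_neg,
      sub_mul]
    abel
  rw [qrefl_eq, hip]
  apply ext3
  · rw [Pi.sub_apply, Pi.smul_apply, smul_eq_mul, h19, toV_zero, toV_zero, toV_zero, toH_QH,
      half_two_mul, swap01]
    abel
  · rw [Pi.sub_apply, Pi.smul_apply, smul_eq_mul, h19, toV_one, toV_one, toV_one, toH_neg, toH_QH,
      mul_neg, half_two_mul, swap01]
    abel
  · rw [Pi.sub_apply, Pi.smul_apply, smul_eq_mul, h19, toV_two, toV_two, toV_two, toH_QZero,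
      mul_zero, swap01]
    abel

theorem qrefl_swap12 (v : V3) : qrefl (toV (rep 3)) (toV v) = toV (swap12 v) := by
  have h19 : rep 3 = ⟨QZero, QH, QZ.smul (-1) QH⟩ := by decide +kernel
  have hip : qip (toV v) (toV (rep 3)) = (toH v.y - toH v.z) * star icoH := by
    rw [qip_def, h19, toV_zero, toV_one, toV_two, toV_zero, toV_one, toV_two]
    simp only [toH_neg, toH_QZero, toH_QH, star_neg, star_zero, mul_zero, zero_add, mul_neg,
      sub_mul]
    abel
  rw [qrefl_eq, hip]
  apply ext3
  · rw [Pi.sub_apply, Pi.smul_apply, smul_eq_mul, h19, toV_zero, toV_zero, toV_zero, toH_QZero,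
      mul_zero, swap12]
    abel
  · rw [Pi.sub_apply, Pi.smul_apply, smul_eq_mul, h19, toV_one, toV_one, toV_one, toH_QH,
      half_two_mul, swap12]
    abel
  · rw [Pi.sub_apply, Pi.smul_apply, smul_eq_mul, h19, toV_two, toV_two, toV_two, toH_neg, toH_QH,
      mul_neg, half_two_mul, swap12]
    abel

theorem qrefl_neg0 (v : V3) : qrefl (toV (rep 0)) (toV v) = toV (neg0 v) := by
  have h0 : rep 0 = ⟨QZ.smul 2 QOne, QZero, QZero⟩ := by decide +kernel
  have h2 : toH (QZ.smul 2 QOne) = ((2 : ℝ) : ℍ[ℝ]) := by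
    rw [toH_smul, toH_QOne]
    push_cast
    rw [two_smul, one_add_one_eq_two]
    rfl
  have hip : qip (toV v) (toV (rep 0)) = (2 : ℝ) • toH v.x := by
    rw [qip_def, h0, toV_zero, toV_one, toV_two, toV_zero, toV_one, toV_two]
    simp only [h2, toH_QZero, star_zero, mul_zero, add_zero, Quaternion.star_coe,
      Quaternion.mul_coe_eq_smul]
  rw [qrefl_eq, hip, smul_smul]
  norm_num
  apply ext3
  · rw [Pi.sub_apply, Pi.smul_apply, smul_eq_mul, h0, toV_zero, toV_zero, toV_zero, h2,
      Quaternion.mul_coe_eq_smul, neg0, toH_neg, two_smul]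
    abel
  · rw [Pi.sub_apply, Pi.smul_apply, smul_eq_mul, h0, toV_one, toV_one, toV_one, toH_QZero,
      mul_zero, neg0]
    abel
  · rw [Pi.sub_apply, Pi.smul_apply, smul_eq_mul, h0, toV_two, toV_two, toV_two, toH_QZero,
      mul_zero, neg0]
    abel

theorem of_mulV_eq {u : QZ} {s v : V3} (h : V3.mulV u s = V3.smul 2 v) :
    toV v = toH u • toV s := by
  have h1 := toV_mulV u s
  rw [h, toV_smul] at h1
  push_cast at h1
  exact smul_right_injective _ (two_ne_zero' ℝ) h1

/-- the four generating reflections act on the 315 lines by the tables -/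
theorem tab_spec (k : Fin 4) {i : ℕ} (hi : i < 315) :
    tabP k i < 315 ∧ tabU k i < 120 ∧
    qrefl (toV (rep (gidx k))) (toV (rep i)) = toH (unitQ (tabU k i)) • toV (rep (tabP k i)) := by
  fin_cases k
  · have := allBelow_spec tab0_chk i hi
    simp only [Bool.and_eq_true, V3.beq_iff, Nat.blt_eq] at this
    refine ⟨this.1.2, this.2, ?_⟩
    have h := qrefl_swap01 (rep i)
    exact h.trans (of_mulV_eq this.1.1)
  · have := allBelow_spec tab1_chk i hi
    simp only [Bool.and_eq_true, V3.beq_iff, Nat.blt_eq] at this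
    refine ⟨this.1.2, this.2, ?_⟩
    have h := qrefl_swap12 (rep i)
    exact h.trans (of_mulV_eq this.1.1)
  · have := allBelow_spec tab2_chk i hi
    simp only [Bool.and_eq_true, V3.beq_iff, Nat.blt_eq] at this
    refine ⟨this.1.2, this.2, ?_⟩
    have h := qrefl_neg0 (rep i)
    exact h.trans (of_mulV_eq this.1.1)
  · have := allBelow_spec tab3_chk i hi
    simp only [Bool.and_eq_true, Nat.blt_eq, reflEq_iff] at this
    exact ⟨this.1.2, this.2, this.1.1⟩

end Cfsg.Agent.Icosian.Tables
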